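import Mathlib
import Cfsg.Agent.H325.Same.BigChar_m3
import Cfsg.Agent.Prune
set_option linter.all false
prune_inst 0x7fffffffffffffffffff7e7ffffdfffffbffffffffdffbfbfffffbfffffffbfffbfdffaf7feff9ffeef7feff3afdfbd7ffffffffeffffc7ffffffff77fffffffffffbfbf79f7bf7eeffdeffffbfbffffffffffffffffffffffffffffffffffffffffffffffff
open scoped Cfsg.Agent.FastGrp

-- part: H363/DQ/BigP
section
/-!
# `H325.Same.BigP` with slack `p ^ (δ f)` (helper363)

`bigp_e6_9`, `bigp_e6_12`, `bigp_te6_18`, `bigp_te6_12`, `bigp_f4_12`, `bigp_f4_8`, `bigp_e8_24`, `bigp_e8_20`: copies of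
the theorems of helper325 (all primes `p`), with the weaker hypothesis `p ^ (N f) ∣ p ^ (δ f) c`, and only the
Zsigmondy primes of the class.
-/

set_option autoImplicit false

namespace Cfsg.Agent.H363.DQ

open Cfsg.Agent.OrdDiv Cfsg.Agent.H436 Cfsg.Agent.H915.GN Cfsg.Agent.H264.GN Cfsg.Agent.H264.FKS
open Cfsg.Agent.H325.Same hiding bigp_e6_9 bigp_e6_12 bigp_te6_18 bigp_te6_12 bigp_f4_12 bigp_f4_8 bigp_e8_24 bigp_e8_20

variable {p f c : ℕ} {g : Grp}

/-- **The comparison with one class and the `p`-part.** -/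
theorem compF {XT : ℕ → Prop} {MT aT e δ f₁ : ℕ} (hp : p.Prime) (hf : 1 ≤ f) (hg : Cond g) (hch : HasChar p g)
    (hf₁ : 1 ≤ f₁) (hfl : fld g = p ^ f₁) (hK : KD p f₁ c (Xg g) (Yg g) (Mg g) (ag g)) (hY : Yg g (Mg g))
    (hc : den g * c = num g) (hT : TD p f c XT MT aT) (h7 : 7 ≤ e) (h2 : MT < 2 * e) (hs' : ∀ s, Prim p (f * e) s → s ∣ c)
    (hpp : p ^ (f * aT) ∣ p ^ (f * δ) * c) :
    ∃ i, XT i ∧ e ≤ i ∧ f₁ * Mg g = f * i ∧ lam g * i ≤ 2 * aT ∧ 2 * aT ≤ lam g * i + 2 * δ ∧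
      (∀ k, Yg g k → 3 ≤ f₁ * k → ¬ (p = 2 ∧ f₁ * k = 6) → ∃ j, XT j ∧ i * k ∣ Mg g * j) := by
  have hM2 := two_le_Mg hg hch
  have hfe : 1 * e ≤ f * e := Nat.mul_le_mul_right _ hf
  have hb := f1_le2 hp hf hT hK hY hM2 h2.le (by omega)
  obtain ⟨i, hi, hei, hfM, ha, -, hYc⟩ := comp2 hp hf hT hK hf₁ h7 h2 hs' hY
  refine ⟨i, hi, hei, hfM, ?_, ?_, hYc⟩
  · have h5 : Mg g * (lam g * i) ≤ Mg g * (2 * aT) := by
      calc Mg g * (lam g * i) = (lam g * Mg g) * i := by ring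
        _ = 2 * (ag g * i) := by rw [← two_ag hch]; ring
        _ ≤ 2 * (aT * Mg g) := Nat.mul_le_mul_left _ ha
        _ = _ := by ring
    exact Nat.le_of_mul_le_mul_left h5 (by omega)
  · -- the `p`-part
    have h5 : f * aT ≤ f₁ * ag g + f * δ := by
      rcases Nat.le_total (f * aT) (f * δ) with h6 | h6
      · omega
      · have h8 : p ^ (f * aT - f * δ) ∣ c := by
          have h9 : p ^ (f * aT) = p ^ (f * δ) * p ^ (f * aT - f * δ) := by rw [← pow_add]; congr 1; omega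
          rw [h9] at hpp
          exact Nat.dvd_of_mul_dvd_mul_left (pow_pos hp.pos _) hpp
        have := pp_all hp hf₁ hg hch hfl hc h8
        omega
    have h6 : f * (Mg g * (2 * aT)) ≤ f * (Mg g * (lam g * i + 2 * δ)) := by
      calc f * (Mg g * (2 * aT)) = 2 * Mg g * (f * aT) := by ring
        _ ≤ 2 * Mg g * (f₁ * ag g + f * δ) := Nat.mul_le_mul_left _ h5
        _ = (f₁ * Mg g) * (2 * ag g) + f * (2 * Mg g * δ) := by ring
        _ = (f * i) * (lam g * Mg g) + f * (2 * Mg g * δ) := by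
            rw [hfM, two_ag hch]
        _ = _ := by ring
    exact Nat.le_of_mul_le_mul_left (Nat.le_of_mul_le_mul_left h6 (by omega)) (by omega)

/-- **`e6`, class 9** -/
theorem bigp_e6_9 (hp : p.Prime) (hf : 1 ≤ f) (hg : Cond g) (hch : HasChar p g)
    (hc : den g * c = num g) (hdvd : c ∣ num (.e6 (p ^ f))) (hs : ∀ s, Prim p (f * 9) s → s ∣ c)
    (hpp : p ^ (36 * f) ∣ p ^ (3 * f) * c) : g = .e6 (p ^ f) := by
  obtain ⟨f₁, hf₁, hfl, hK, hY⟩ := kd_all hp hg hch hc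
  have hT := td_e6 hp hf hdvd
  have hq : 2 ≤ p ^ f := hp.two_le.trans (Nat.le_self_pow (by omega) _)
  obtain ⟨i, hi, hei, hfM, hl1, hl2, hYc⟩ := compF (δ := 3) (e := 9) hp hf hg hch hf₁ hfl hK hY hc hT (by norm_num)
    (by norm_num) hs (by rwa [mul_comm f, mul_comm f])
  have hi' : i ∈ [2, 5, 6, 8, 9, 12] := hi
  simp only [List.mem_cons, List.not_mem_nil, or_false] at hi'
  have key : (i = 9 ∧ lam g = 8) ∨ (i = 12 ∧ lam g = 6) := by
    rcases hi' with rfl | rfl | rfl | rfl | rfl | rfl <;> omega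
  clear hi hi' hei hl1 hl2
  rcases key with ⟨rfl, hL⟩ | ⟨rfl, hL⟩
  · rcases cases_lam hg hch hL (by norm_num) with ⟨q, rfl⟩ | ⟨q, rfl⟩ | ⟨q, rfl⟩ | ⟨q, rfl⟩ | ⟨q, rfl⟩ | ⟨q, rfl⟩ | ⟨q, rfl⟩ |
      ⟨h0, q, rfl⟩ | ⟨h0, q, rfl⟩ | ⟨h0, q, rfl⟩ | ⟨h0, q, rfl⟩ | ⟨h0, q, rfl⟩
    · exfalso
      have h5 : f₁ * 9 = f * 9 := hfM
      obtain ⟨j, hj, hd⟩ := hYc 7 ⟨by norm_num, by norm_num⟩ (by omega) (by omega)
      have hd' : 63 ∣ 9 * j := hd
      have hj' : j ∈ [2, 5, 6, 8, 9, 12] := hj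
      simp only [List.mem_cons, List.not_mem_nil, or_false] at hj'
      omega
    · exfalso
      have h5 : f₁ * 16 = f * 9 := hfM
      obtain ⟨j, hj, hd⟩ := hYc 10 ⟨by norm_num, by norm_num, by norm_num⟩ (by omega) (by omega)
      have hd' : 90 ∣ 16 * j := hd
      have hj' : j ∈ [2, 5, 6, 8, 9, 12] := hj
      simp only [List.mem_cons, List.not_mem_nil, or_false] at hj'
      (clear * - hd' hj'; omega)
    · exfalso
      have h5 : f₁ * 16 = f * 9 := hfM
      obtain ⟨j, hj, hd⟩ := hYc 10 ⟨by norm_num, by norm_num, by norm_num⟩ (by (clear * - hf h5; omega)) (by omega)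
      have hd' : 90 ∣ 16 * j := hd
      have hj' : j ∈ [2, 5, 6, 8, 9, 12] := hj
      simp only [List.mem_cons, List.not_mem_nil, or_false] at hj'
      (clear * - hd' hj'; omega)
    · exfalso
      have h5 : f₁ * 14 = f * 9 := hfM
      obtain ⟨j, hj, hd⟩ := hYc 4 ⟨by norm_num, by norm_num, by norm_num⟩ (by omega) (by omega)
      have hd' : 36 ∣ 14 * j := hd
      have hj' : j ∈ [2, 5, 6, 8, 9, 12] := hj
      simp only [List.mem_cons, List.not_mem_nil, or_false] at hj'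
      (clear * - hd' hj'; omega)
    · exfalso
      have h5 : f₁ * 18 = f * 9 := hfM
      obtain ⟨j, hj, hd⟩ := hYc 14 ⟨by norm_num, by norm_num, by norm_num⟩ (by omega) (by omega)
      have hd' : 126 ∣ 18 * j := hd
      have hj' : j ∈ [2, 5, 6, 8, 9, 12] := hj
      simp only [List.mem_cons, List.not_mem_nil, or_false] at hj'
      omega
    · exfalso
      have h5 : f₁ * 30 = f * 9 := hfM
      obtain ⟨j, hj, hd⟩ := hYc 12 ⟨by norm_num, Or.inl ⟨by norm_num, by norm_num⟩⟩ (by omega) (by omega)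
      have hd' : 108 ∣ 30 * j := hd
      have hj' : j ∈ [2, 5, 6, 8, 9, 12] := hj
      simp only [List.mem_cons, List.not_mem_nil, or_false] at hj'
      (clear * - hd' hj'; omega)
    · exfalso
      have h5 : f₁ * 34 = f * 9 := hfM
      obtain ⟨j, hj, hd⟩ := hYc 4 ⟨by norm_num, Or.inl ⟨by norm_num, by norm_num⟩⟩ (by (clear * - hf₁; omega)) (by (clear * -; omega))
      have hd' : 36 ∣ 34 * j := hd
      have hj' : j ∈ [2, 5, 6, 8, 9, 12] := hj
      simp only [List.mem_cons, List.not_mem_nil, or_false] at hj'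
      omega
    · exact absurd h0 (by norm_num)
    · exact absurd h0 (by norm_num)
    · exact absurd h0 (by norm_num)
    · exact absurd h0 (by norm_num)
    · exfalso
      have h5 : f₁ * 30 = f * 9 := hfM
      obtain ⟨j, hj, hd⟩ := hYc 7 (by decide : 7 ∈ [2, 3, 4, 5, 6, 7, 8, 9, 10, 12, 14, 15, 18, 20, 24, 30]) (by omega) (by omega)
      have hd' : 63 ∣ 30 * j := hd
      have hj' : j ∈ [2, 5, 6, 8, 9, 12] := hj
      simp only [List.mem_cons, List.not_mem_nil, or_false] at hj'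
      (clear * - hd' hj'; omega)
  · rcases cases_lam hg hch hL (by norm_num) with ⟨q, rfl⟩ | ⟨q, rfl⟩ | ⟨q, rfl⟩ | ⟨q, rfl⟩ | ⟨q, rfl⟩ | ⟨q, rfl⟩ | ⟨q, rfl⟩ |
      ⟨h0, q, rfl⟩ | ⟨h0, q, rfl⟩ | ⟨h0, q, rfl⟩ | ⟨h0, q, rfl⟩ | ⟨h0, q, rfl⟩
    · exfalso
      have h5 : f₁ * 7 = f * 12 := hfM
      obtain ⟨j, hj, hd⟩ := hYc 4 ⟨by norm_num, by norm_num⟩ (by (clear * - hf₁; omega)) (by omega)
      have hd' : 48 ∣ 7 * j := hd
      have hj' : j ∈ [2, 5, 6, 8, 9, 12] := hj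
      simp only [List.mem_cons, List.not_mem_nil, or_false] at hj'
      (clear * - hd' hj'; omega)
    · exfalso
      have h5 : f₁ * 12 = f * 12 := hfM
      obtain ⟨j, hj, hd⟩ := hYc 10 ⟨by norm_num, by norm_num, by norm_num⟩ (by omega) (by omega)
      have hd' : 120 ∣ 12 * j := hd
      have hj' : j ∈ [2, 5, 6, 8, 9, 12] := hj
      simp only [List.mem_cons, List.not_mem_nil, or_false] at hj'
      omega
    · exfalso
      have h5 : f₁ * 12 = f * 12 := hfM
      obtain ⟨j, hj, hd⟩ := hYc 10 ⟨by norm_num, by norm_num, by norm_num⟩ (by omega) (by omega)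
      have hd' : 120 ∣ 12 * j := hd
      have hj' : j ∈ [2, 5, 6, 8, 9, 12] := hj
      simp only [List.mem_cons, List.not_mem_nil, or_false] at hj'
      omega
    · exfalso
      have h5 : f₁ * 10 = f * 12 := hfM
      obtain ⟨j, hj, hd⟩ := hYc 4 ⟨by norm_num, by norm_num, by norm_num⟩ (by omega) (by omega)
      have hd' : 48 ∣ 10 * j := hd
      have hj' : j ∈ [2, 5, 6, 8, 9, 12] := hj
      simp only [List.mem_cons, List.not_mem_nil, or_false] at hj'
      (clear * - hd' hj'; omega)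
    · exfalso
      have h5 : f₁ * 14 = f * 12 := hfM
      obtain ⟨j, hj, hd⟩ := hYc 4 ⟨by norm_num, by norm_num, by norm_num⟩ (by omega) (by omega)
      have hd' : 48 ∣ 14 * j := hd
      have hj' : j ∈ [2, 5, 6, 8, 9, 12] := hj
      simp only [List.mem_cons, List.not_mem_nil, or_false] at hj'
      (clear * - hd' hj'; omega)
    · exfalso
      have h5 : f₁ * 22 = f * 12 := hfM
      obtain ⟨j, hj, hd⟩ := hYc 4 ⟨by norm_num, Or.inl ⟨by norm_num, by norm_num⟩⟩ (by omega) (by omega)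
      have hd' : 48 ∣ 22 * j := hd
      have hj' : j ∈ [2, 5, 6, 8, 9, 12] := hj
      simp only [List.mem_cons, List.not_mem_nil, or_false] at hj'
      (clear * - hd' hj'; omega)
    · exfalso
      have h5 : f₁ * 26 = f * 12 := hfM
      obtain ⟨j, hj, hd⟩ := hYc 4 ⟨by norm_num, Or.inl ⟨by norm_num, by norm_num⟩⟩ (by omega) (by omega)
      have hd' : 48 ∣ 26 * j := hd
      have hj' : j ∈ [2, 5, 6, 8, 9, 12] := hj
      simp only [List.mem_cons, List.not_mem_nil, or_false] at hj'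
      (clear * - hd' hj'; omega)
    · exact absurd h0 (by norm_num)
    · exact absurd h0 (by norm_num)
    · obtain rfl : q = p ^ f₁ := hfl
      rw [same_fld (M := 12) (by norm_num) hfM]
    · exact absurd h0 (by norm_num)
    · exact absurd h0 (by norm_num)

/-- **`e6`, class 12** -/
theorem bigp_e6_12 (hp : p.Prime) (hf : 1 ≤ f) (hg : Cond g) (hch : HasChar p g)
    (hc : den g * c = num g) (hdvd : c ∣ num (.e6 (p ^ f))) (hs : ∀ s, Prim p (f * 12) s → s ∣ c)
    (hpp : p ^ (36 * f) ∣ p ^ (3 * f) * c) : g = .e6 (p ^ f) := by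
  obtain ⟨f₁, hf₁, hfl, hK, hY⟩ := kd_all hp hg hch hc
  have hT := td_e6 hp hf hdvd
  have hq : 2 ≤ p ^ f := hp.two_le.trans (Nat.le_self_pow (by omega) _)
  obtain ⟨i, hi, hei, hfM, hl1, hl2, hYc⟩ := compF (δ := 3) (e := 12) hp hf hg hch hf₁ hfl hK hY hc hT (by norm_num)
    (by norm_num) hs (by rwa [mul_comm f, mul_comm f])
  have hi' : i ∈ [2, 5, 6, 8, 9, 12] := hi
  simp only [List.mem_cons, List.not_mem_nil, or_false] at hi'
  have key : (i = 12 ∧ lam g = 6) := by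
    rcases hi' with rfl | rfl | rfl | rfl | rfl | rfl <;> omega
  clear hi hi' hei hl1 hl2
  obtain ⟨rfl, hL⟩ := key
  rcases cases_lam hg hch hL (by norm_num) with ⟨q, rfl⟩ | ⟨q, rfl⟩ | ⟨q, rfl⟩ | ⟨q, rfl⟩ | ⟨q, rfl⟩ | ⟨q, rfl⟩ | ⟨q, rfl⟩ |
    ⟨h0, q, rfl⟩ | ⟨h0, q, rfl⟩ | ⟨h0, q, rfl⟩ | ⟨h0, q, rfl⟩ | ⟨h0, q, rfl⟩
  · exfalso
    have h5 : f₁ * 7 = f * 12 := hfM
    obtain ⟨j, hj, hd⟩ := hYc 4 ⟨by norm_num, by norm_num⟩ (by (clear * - hf₁; omega)) (by omega)
    have hd' : 48 ∣ 7 * j := hd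
    have hj' : j ∈ [2, 5, 6, 8, 9, 12] := hj
    simp only [List.mem_cons, List.not_mem_nil, or_false] at hj'
    (clear * - hd' hj'; omega)
  · exfalso
    have h5 : f₁ * 12 = f * 12 := hfM
    obtain ⟨j, hj, hd⟩ := hYc 10 ⟨by norm_num, by norm_num, by norm_num⟩ (by omega) (by omega)
    have hd' : 120 ∣ 12 * j := hd
    have hj' : j ∈ [2, 5, 6, 8, 9, 12] := hj
    simp only [List.mem_cons, List.not_mem_nil, or_false] at hj'
    omega
  · exfalso
    have h5 : f₁ * 12 = f * 12 := hfM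
    obtain ⟨j, hj, hd⟩ := hYc 10 ⟨by norm_num, by norm_num, by norm_num⟩ (by omega) (by omega)
    have hd' : 120 ∣ 12 * j := hd
    have hj' : j ∈ [2, 5, 6, 8, 9, 12] := hj
    simp only [List.mem_cons, List.not_mem_nil, or_false] at hj'
    omega
  · exfalso
    have h5 : f₁ * 10 = f * 12 := hfM
    obtain ⟨j, hj, hd⟩ := hYc 4 ⟨by norm_num, by norm_num, by norm_num⟩ (by omega) (by omega)
    have hd' : 48 ∣ 10 * j := hd
    have hj' : j ∈ [2, 5, 6, 8, 9, 12] := hj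
    simp only [List.mem_cons, List.not_mem_nil, or_false] at hj'
    (clear * - hd' hj'; omega)
  · exfalso
    have h5 : f₁ * 14 = f * 12 := hfM
    obtain ⟨j, hj, hd⟩ := hYc 4 ⟨by norm_num, by norm_num, by norm_num⟩ (by omega) (by omega)
    have hd' : 48 ∣ 14 * j := hd
    have hj' : j ∈ [2, 5, 6, 8, 9, 12] := hj
    simp only [List.mem_cons, List.not_mem_nil, or_false] at hj'
    (clear * - hd' hj'; omega)
  · exfalso
    have h5 : f₁ * 22 = f * 12 := hfM
    obtain ⟨j, hj, hd⟩ := hYc 4 ⟨by norm_num, Or.inl ⟨by norm_num, by norm_num⟩⟩ (by omega) (by omega)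
    have hd' : 48 ∣ 22 * j := hd
    have hj' : j ∈ [2, 5, 6, 8, 9, 12] := hj
    simp only [List.mem_cons, List.not_mem_nil, or_false] at hj'
    (clear * - hd' hj'; omega)
  · exfalso
    have h5 : f₁ * 26 = f * 12 := hfM
    obtain ⟨j, hj, hd⟩ := hYc 4 ⟨by norm_num, Or.inl ⟨by norm_num, by norm_num⟩⟩ (by omega) (by omega)
    have hd' : 48 ∣ 26 * j := hd
    have hj' : j ∈ [2, 5, 6, 8, 9, 12] := hj
    simp only [List.mem_cons, List.not_mem_nil, or_false] at hj'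
    (clear * - hd' hj'; omega)
  · exact absurd h0 (by norm_num)
  · exact absurd h0 (by norm_num)
  · obtain rfl : q = p ^ f₁ := hfl
    rw [same_fld (M := 12) (by norm_num) hfM]
  · exact absurd h0 (by norm_num)
  · exact absurd h0 (by norm_num)

/-- **`te6`, class 18** -/
theorem bigp_te6_18 (hp : p.Prime) (hf : 1 ≤ f) (hg : Cond g) (hch : HasChar p g)
    (hc : den g * c = num g) (hdvd : c ∣ num (.te6 (p ^ f))) (hs : ∀ s, Prim p (f * 18) s → s ∣ c)
    (hpp : p ^ (36 * f) ∣ p ^ (3 * f) * c) : g = .te6 (p ^ f) := by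
  obtain ⟨f₁, hf₁, hfl, hK, hY⟩ := kd_all hp hg hch hc
  have hT := td_te6 hp hf hdvd
  have hq : 2 ≤ p ^ f := hp.two_le.trans (Nat.le_self_pow (by omega) _)
  obtain ⟨i, hi, hei, hfM, hl1, hl2, hYc⟩ := compF (δ := 3) (e := 18) hp hf hg hch hf₁ hfl hK hY hc hT (by norm_num)
    (by norm_num) hs (by rwa [mul_comm f, mul_comm f])
  have hi' : i ∈ [2, 10, 6, 8, 18, 12] := hi
  simp only [List.mem_cons, List.not_mem_nil, or_false] at hi'
  have key : (i = 18 ∧ lam g = 4) := by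
    rcases hi' with rfl | rfl | rfl | rfl | rfl | rfl <;> omega
  clear hi hi' hei hl1 hl2
  obtain ⟨rfl, hL⟩ := key
  rcases cases_lam hg hch hL (by norm_num) with ⟨q, rfl⟩ | ⟨q, rfl⟩ | ⟨q, rfl⟩ | ⟨q, rfl⟩ | ⟨q, rfl⟩ | ⟨q, rfl⟩ | ⟨q, rfl⟩ |
    ⟨h0, q, rfl⟩ | ⟨h0, q, rfl⟩ | ⟨h0, q, rfl⟩ | ⟨h0, q, rfl⟩ | ⟨h0, q, rfl⟩
  · exfalso
    have h5 : f₁ * 5 = f * 18 := hfM
    obtain ⟨j, hj, hd⟩ := hYc 4 ⟨by norm_num, by norm_num⟩ (by omega) (by omega)
    have hd' : 72 ∣ 5 * j := hd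
    have hj' : j ∈ [2, 10, 6, 8, 18, 12] := hj
    simp only [List.mem_cons, List.not_mem_nil, or_false] at hj'
    (clear * - hd' hj'; omega)
  · exfalso
    have h5 : f₁ * 8 = f * 18 := hfM
    obtain ⟨j, hj, hd⟩ := hYc 6 ⟨by norm_num, by norm_num, by norm_num⟩ (by omega) (by omega)
    have hd' : 108 ∣ 8 * j := hd
    have hj' : j ∈ [2, 10, 6, 8, 18, 12] := hj
    simp only [List.mem_cons, List.not_mem_nil, or_false] at hj'
    (clear * - hd' hj'; omega)
  · exfalso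
    have h5 : f₁ * 8 = f * 18 := hfM
    obtain ⟨j, hj, hd⟩ := hYc 6 ⟨by norm_num, by norm_num, by norm_num⟩ (by omega) (by omega)
    have hd' : 108 ∣ 8 * j := hd
    have hj' : j ∈ [2, 10, 6, 8, 18, 12] := hj
    simp only [List.mem_cons, List.not_mem_nil, or_false] at hj'
    (clear * - hd' hj'; omega)
  · exfalso
    obtain rfl : q = p ^ f₁ := hfl
    have h5 : f₁ * (2 * (4 - 1)) = f * 18 := hfM
    obtain ⟨s, hs0⟩ := exists_prim (q := p ^ f) (e := 9) hq (by norm_num) (by omega)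
    have hn : ¬ s ∣ c := fun h => not_dvd_te6 hs0 (h.trans hdvd)
    have h6 := Cfsg.Agent.H425.Chr.prim_quot (f := 3) (by norm_num) hs0
    rw [← pow_mul, show f * 3 = f₁ by omega] at h6
    exact hn (oplus_prim (e := 3) 3 (by norm_num) (by norm_num) (by norm_num) le_rfl hc h6)
  · exfalso
    have h5 : f₁ * 10 = f * 18 := hfM
    obtain ⟨j, hj, hd⟩ := hYc 4 ⟨by norm_num, by norm_num, by norm_num⟩ (by omega) (by omega)
    have hd' : 72 ∣ 10 * j := hd
    have hj' : j ∈ [2, 10, 6, 8, 18, 12] := hj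
    simp only [List.mem_cons, List.not_mem_nil, or_false] at hj'
    (clear * - hd' hj'; omega)
  · exfalso
    have h5 : f₁ * 14 = f * 18 := hfM
    obtain ⟨j, hj, hd⟩ := hYc 4 ⟨by norm_num, Or.inl ⟨by norm_num, by norm_num⟩⟩ (by omega) (by omega)
    have hd' : 72 ∣ 14 * j := hd
    have hj' : j ∈ [2, 10, 6, 8, 18, 12] := hj
    simp only [List.mem_cons, List.not_mem_nil, or_false] at hj'
    (clear * - hd' hj'; omega)
  · exfalso
    have h5 : f₁ * 18 = f * 18 := hfM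
    obtain ⟨j, hj, hd⟩ := hYc 14 ⟨by norm_num, Or.inr ⟨7, by norm_num, by norm_num, by norm_num⟩⟩ (by omega) (by omega)
    have hd' : 252 ∣ 18 * j := hd
    have hj' : j ∈ [2, 10, 6, 8, 18, 12] := hj
    simp only [List.mem_cons, List.not_mem_nil, or_false] at hj'
    omega
  · exfalso
    obtain rfl : q = p ^ f₁ := hfl
    have h5 : f₁ * 12 = f * 18 := hfM
    obtain ⟨s, hs0⟩ := exists_prim (q := p) (e := f₁ * 6) hp.two_le (by omega) (by omega)
    have h6 : s ∣ c := hK.has (by decide : 6 ∈ [2, 3, 4, 6, 8, 12]) (by omega) hs0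
    rw [show f₁ * 6 = f * 9 by omega] at hs0
    exact not_dvd_te6 (prim_pow hf hs0) (h6.trans hdvd)
  · obtain rfl : q = p ^ f₁ := hfl
    rw [same_fld (M := 18) (by norm_num) hfM]
  · exact absurd h0 (by norm_num)
  · exact absurd h0 (by norm_num)
  · exact absurd h0 (by norm_num)

/-- **`te6`, class 12** -/
theorem bigp_te6_12 (hp : p.Prime) (hf : 1 ≤ f) (hg : Cond g) (hch : HasChar p g)
    (hc : den g * c = num g) (hdvd : c ∣ num (.te6 (p ^ f))) (hs : ∀ s, Prim p (f * 12) s → s ∣ c)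
    (hpp : p ^ (36 * f) ∣ p ^ (3 * f) * c) : g = .te6 (p ^ f) := by
  obtain ⟨f₁, hf₁, hfl, hK, hY⟩ := kd_all hp hg hch hc
  have hT := td_te6 hp hf hdvd
  have hq : 2 ≤ p ^ f := hp.two_le.trans (Nat.le_self_pow (by omega) _)
  obtain ⟨i, hi, hei, hfM, hl1, hl2, hYc⟩ := compF (δ := 3) (e := 12) hp hf hg hch hf₁ hfl hK hY hc hT (by norm_num)
    (by norm_num) hs (by rwa [mul_comm f, mul_comm f])
  have hi' : i ∈ [2, 10, 6, 8, 18, 12] := hi
  simp only [List.mem_cons, List.not_mem_nil, or_false] at hi'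
  have key : (i = 12 ∧ lam g = 6) ∨ (i = 18 ∧ lam g = 4) := by
    rcases hi' with rfl | rfl | rfl | rfl | rfl | rfl <;> omega
  clear hi hi' hei hl1 hl2
  rcases key with ⟨rfl, hL⟩ | ⟨rfl, hL⟩
  · rcases cases_lam hg hch hL (by norm_num) with ⟨q, rfl⟩ | ⟨q, rfl⟩ | ⟨q, rfl⟩ | ⟨q, rfl⟩ | ⟨q, rfl⟩ | ⟨q, rfl⟩ | ⟨q, rfl⟩ |
      ⟨h0, q, rfl⟩ | ⟨h0, q, rfl⟩ | ⟨h0, q, rfl⟩ | ⟨h0, q, rfl⟩ | ⟨h0, q, rfl⟩
    · exfalso
      have h5 : f₁ * 7 = f * 12 := hfM
      obtain ⟨j, hj, hd⟩ := hYc 4 ⟨by norm_num, by norm_num⟩ (by (clear * - hf₁; omega)) (by omega)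
      have hd' : 48 ∣ 7 * j := hd
      have hj' : j ∈ [2, 10, 6, 8, 18, 12] := hj
      simp only [List.mem_cons, List.not_mem_nil, or_false] at hj'
      (clear * - hd' hj'; omega)
    · exfalso
      obtain rfl : q = p ^ f₁ := hfl
      have h5 : f₁ * (2 * 6) = f * 12 := hfM
      obtain rfl : f₁ = f := by omega
      obtain ⟨s, hs0⟩ := exists_prim (q := p ^ f₁) (e := 5) hq (by norm_num) (by omega)
      have hn : ¬ s ∣ c := fun h => not_dvd_te6_5 hs0 (h.trans hdvd)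
      exact hn (psp_prim (e := 5) 5 (by norm_num) (by norm_num) (by norm_num) (by norm_num) hc hs0)
    · exfalso
      obtain rfl : q = p ^ f₁ := hfl
      have h5 : f₁ * (2 * 6) = f * 12 := hfM
      obtain rfl : f₁ = f := by omega
      obtain ⟨s, hs0⟩ := exists_prim (q := p ^ f₁) (e := 5) hq (by norm_num) (by omega)
      have hn : ¬ s ∣ c := fun h => not_dvd_te6_5 hs0 (h.trans hdvd)
      exact hn (oodd_prim (e := 5) 5 (by norm_num) (by norm_num) (by norm_num) (by norm_num) hc hs0)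
    · exfalso
      have h5 : f₁ * 10 = f * 12 := hfM
      obtain ⟨j, hj, hd⟩ := hYc 4 ⟨by norm_num, by norm_num, by norm_num⟩ (by omega) (by omega)
      have hd' : 48 ∣ 10 * j := hd
      have hj' : j ∈ [2, 10, 6, 8, 18, 12] := hj
      simp only [List.mem_cons, List.not_mem_nil, or_false] at hj'
      (clear * - hd' hj'; omega)
    · exfalso
      have h5 : f₁ * 14 = f * 12 := hfM
      obtain ⟨j, hj, hd⟩ := hYc 4 ⟨by norm_num, by norm_num, by norm_num⟩ (by omega) (by omega)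
      have hd' : 48 ∣ 14 * j := hd
      have hj' : j ∈ [2, 10, 6, 8, 18, 12] := hj
      simp only [List.mem_cons, List.not_mem_nil, or_false] at hj'
      (clear * - hd' hj'; omega)
    · exfalso
      have h5 : f₁ * 22 = f * 12 := hfM
      obtain ⟨j, hj, hd⟩ := hYc 4 ⟨by norm_num, Or.inl ⟨by norm_num, by norm_num⟩⟩ (by omega) (by omega)
      have hd' : 48 ∣ 22 * j := hd
      have hj' : j ∈ [2, 10, 6, 8, 18, 12] := hj
      simp only [List.mem_cons, List.not_mem_nil, or_false] at hj'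
      (clear * - hd' hj'; omega)
    · exfalso
      have h5 : f₁ * 26 = f * 12 := hfM
      obtain ⟨j, hj, hd⟩ := hYc 4 ⟨by norm_num, Or.inl ⟨by norm_num, by norm_num⟩⟩ (by omega) (by omega)
      have hd' : 48 ∣ 26 * j := hd
      have hj' : j ∈ [2, 10, 6, 8, 18, 12] := hj
      simp only [List.mem_cons, List.not_mem_nil, or_false] at hj'
      (clear * - hd' hj'; omega)
    · exact absurd h0 (by norm_num)
    · exact absurd h0 (by norm_num)
    · exfalso
      obtain rfl : q = p ^ f₁ := hfl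
      have h5 : f₁ * 12 = f * 12 := hfM
      obtain rfl : f₁ = f := by omega
      obtain ⟨s, hs0⟩ := exists_prim (q := p) (e := f₁ * 9) hp.two_le (by omega) (by omega)
      have h6 : s ∣ c := hK.has (by decide : 9 ∈ [2, 3, 4, 5, 6, 8, 9, 12]) (by omega) hs0
      exact not_dvd_te6 (prim_pow hf₁ hs0) (h6.trans hdvd)
    · exact absurd h0 (by norm_num)
    · exact absurd h0 (by norm_num)
  · rcases cases_lam hg hch hL (by norm_num) with ⟨q, rfl⟩ | ⟨q, rfl⟩ | ⟨q, rfl⟩ | ⟨q, rfl⟩ | ⟨q, rfl⟩ | ⟨q, rfl⟩ | ⟨q, rfl⟩ |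
      ⟨h0, q, rfl⟩ | ⟨h0, q, rfl⟩ | ⟨h0, q, rfl⟩ | ⟨h0, q, rfl⟩ | ⟨h0, q, rfl⟩
    · exfalso
      have h5 : f₁ * 5 = f * 18 := hfM
      obtain ⟨j, hj, hd⟩ := hYc 4 ⟨by norm_num, by norm_num⟩ (by omega) (by omega)
      have hd' : 72 ∣ 5 * j := hd
      have hj' : j ∈ [2, 10, 6, 8, 18, 12] := hj
      simp only [List.mem_cons, List.not_mem_nil, or_false] at hj'
      (clear * - hd' hj'; omega)
    · exfalso
      have h5 : f₁ * 8 = f * 18 := hfM
      obtain ⟨j, hj, hd⟩ := hYc 6 ⟨by norm_num, by norm_num, by norm_num⟩ (by omega) (by omega)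
      have hd' : 108 ∣ 8 * j := hd
      have hj' : j ∈ [2, 10, 6, 8, 18, 12] := hj
      simp only [List.mem_cons, List.not_mem_nil, or_false] at hj'
      (clear * - hd' hj'; omega)
    · exfalso
      have h5 : f₁ * 8 = f * 18 := hfM
      obtain ⟨j, hj, hd⟩ := hYc 6 ⟨by norm_num, by norm_num, by norm_num⟩ (by omega) (by omega)
      have hd' : 108 ∣ 8 * j := hd
      have hj' : j ∈ [2, 10, 6, 8, 18, 12] := hj
      simp only [List.mem_cons, List.not_mem_nil, or_false] at hj'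
      (clear * - hd' hj'; omega)
    · exfalso
      obtain rfl : q = p ^ f₁ := hfl
      have h5 : f₁ * (2 * (4 - 1)) = f * 18 := hfM
      obtain ⟨s, hs0⟩ := exists_prim (q := p ^ f) (e := 9) hq (by norm_num) (by omega)
      have hn : ¬ s ∣ c := fun h => not_dvd_te6 hs0 (h.trans hdvd)
      have h6 := Cfsg.Agent.H425.Chr.prim_quot (f := 3) (by norm_num) hs0
      rw [← pow_mul, show f * 3 = f₁ by omega] at h6
      exact hn (oplus_prim (e := 3) 3 (by norm_num) (by norm_num) (by norm_num) le_rfl hc h6)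
    · exfalso
      have h5 : f₁ * 10 = f * 18 := hfM
      obtain ⟨j, hj, hd⟩ := hYc 4 ⟨by norm_num, by norm_num, by norm_num⟩ (by omega) (by omega)
      have hd' : 72 ∣ 10 * j := hd
      have hj' : j ∈ [2, 10, 6, 8, 18, 12] := hj
      simp only [List.mem_cons, List.not_mem_nil, or_false] at hj'
      (clear * - hd' hj'; omega)
    · exfalso
      have h5 : f₁ * 14 = f * 18 := hfM
      obtain ⟨j, hj, hd⟩ := hYc 4 ⟨by norm_num, Or.inl ⟨by norm_num, by norm_num⟩⟩ (by omega) (by omega)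
      have hd' : 72 ∣ 14 * j := hd
      have hj' : j ∈ [2, 10, 6, 8, 18, 12] := hj
      simp only [List.mem_cons, List.not_mem_nil, or_false] at hj'
      (clear * - hd' hj'; omega)
    · exfalso
      have h5 : f₁ * 18 = f * 18 := hfM
      obtain ⟨j, hj, hd⟩ := hYc 14 ⟨by norm_num, Or.inr ⟨7, by norm_num, by norm_num, by norm_num⟩⟩ (by omega) (by omega)
      have hd' : 252 ∣ 18 * j := hd
      have hj' : j ∈ [2, 10, 6, 8, 18, 12] := hj
      simp only [List.mem_cons, List.not_mem_nil, or_false] at hj'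
      omega
    · exfalso
      obtain rfl : q = p ^ f₁ := hfl
      have h5 : f₁ * 12 = f * 18 := hfM
      obtain ⟨s, hs0⟩ := exists_prim (q := p) (e := f₁ * 6) hp.two_le (by omega) (by omega)
      have h6 : s ∣ c := hK.has (by decide : 6 ∈ [2, 3, 4, 6, 8, 12]) (by omega) hs0
      rw [show f₁ * 6 = f * 9 by omega] at hs0
      exact not_dvd_te6 (prim_pow hf hs0) (h6.trans hdvd)
    · obtain rfl : q = p ^ f₁ := hfl
      rw [same_fld (M := 18) (by norm_num) hfM]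
    · exact absurd h0 (by norm_num)
    · exact absurd h0 (by norm_num)
    · exact absurd h0 (by norm_num)

/-- **`f4`, class 12** -/
theorem bigp_f4_12 (hp : p.Prime) (hf : 1 ≤ f) (hg : Cond g) (hch : HasChar p g)
    (hc : den g * c = num g) (hdvd : c ∣ num (.f4 (p ^ f))) (hs : ∀ s, Prim p (f * 12) s → s ∣ c)
    (hpp : p ^ (24 * f) ∣ p ^ (5 * f) * c) : g = .f4 (p ^ f) := by
  obtain ⟨f₁, hf₁, hfl, hK, hY⟩ := kd_all hp hg hch hc
  have hT := td_f4 hp hf hdvd
  have hq : 2 ≤ p ^ f := hp.two_le.trans (Nat.le_self_pow (by omega) _)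
  obtain ⟨i, hi, hei, hfM, hl1, hl2, hYc⟩ := compF (δ := 5) (e := 12) hp hf hg hch hf₁ hfl hK hY hc hT (by norm_num)
    (by norm_num) hs (by rwa [mul_comm f, mul_comm f])
  have hi' : i ∈ [2, 6, 8, 12] := hi
  simp only [List.mem_cons, List.not_mem_nil, or_false] at hi'
  have key : (i = 12 ∧ lam g = 4) := by
    rcases hi' with rfl | rfl | rfl | rfl <;> omega
  clear hi hi' hei hl1 hl2
  obtain ⟨rfl, hL⟩ := key
  rcases cases_lam hg hch hL (by norm_num) with ⟨q, rfl⟩ | ⟨q, rfl⟩ | ⟨q, rfl⟩ | ⟨q, rfl⟩ | ⟨q, rfl⟩ | ⟨q, rfl⟩ | ⟨q, rfl⟩ |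
    ⟨h0, q, rfl⟩ | ⟨h0, q, rfl⟩ | ⟨h0, q, rfl⟩ | ⟨h0, q, rfl⟩ | ⟨h0, q, rfl⟩
  · exfalso
    have h5 : f₁ * 5 = f * 12 := hfM
    obtain ⟨j, hj, hd⟩ := hYc 4 ⟨by norm_num, by norm_num⟩ (by omega) (by omega)
    have hd' : 48 ∣ 5 * j := hd
    have hj' : j ∈ [2, 6, 8, 12] := hj
    simp only [List.mem_cons, List.not_mem_nil, or_false] at hj'
    (clear * - hd' hj'; omega)
  · exfalso
    have h5 : f₁ * 8 = f * 12 := hfM
    obtain ⟨j, hj, hd⟩ := hYc 6 ⟨by norm_num, by norm_num, by norm_num⟩ (by omega) (by omega)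
    have hd' : 72 ∣ 8 * j := hd
    have hj' : j ∈ [2, 6, 8, 12] := hj
    simp only [List.mem_cons, List.not_mem_nil, or_false] at hj'
    omega
  · exfalso
    have h5 : f₁ * 8 = f * 12 := hfM
    obtain ⟨j, hj, hd⟩ := hYc 6 ⟨by norm_num, by norm_num, by norm_num⟩ (by omega) (by omega)
    have hd' : 72 ∣ 8 * j := hd
    have hj' : j ∈ [2, 6, 8, 12] := hj
    simp only [List.mem_cons, List.not_mem_nil, or_false] at hj'
    omega
  · exfalso
    obtain rfl : q = p ^ f₁ := hfl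
    have h5 : f₁ * (2 * (4 - 1)) = f * 12 := hfM
    obtain rfl : f₁ = f * 2 := by omega
    exact kill_oplus4 hp hf hc hdvd
  · exfalso
    have h5 : f₁ * 10 = f * 12 := hfM
    obtain ⟨j, hj, hd⟩ := hYc 4 ⟨by norm_num, by norm_num, by norm_num⟩ (by omega) (by omega)
    have hd' : 48 ∣ 10 * j := hd
    have hj' : j ∈ [2, 6, 8, 12] := hj
    simp only [List.mem_cons, List.not_mem_nil, or_false] at hj'
    (clear * - hd' hj'; omega)
  · exfalso
    have h5 : f₁ * 14 = f * 12 := hfM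
    obtain ⟨j, hj, hd⟩ := hYc 4 ⟨by norm_num, Or.inl ⟨by norm_num, by norm_num⟩⟩ (by omega) (by omega)
    have hd' : 48 ∣ 14 * j := hd
    have hj' : j ∈ [2, 6, 8, 12] := hj
    simp only [List.mem_cons, List.not_mem_nil, or_false] at hj'
    (clear * - hd' hj'; omega)
  · exfalso
    have h5 : f₁ * 18 = f * 12 := hfM
    obtain ⟨j, hj, hd⟩ := hYc 8 ⟨by norm_num, Or.inl ⟨by norm_num, by norm_num⟩⟩ (by omega) (by omega)
    have hd' : 96 ∣ 18 * j := hd
    have hj' : j ∈ [2, 6, 8, 12] := hj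
    simp only [List.mem_cons, List.not_mem_nil, or_false] at hj'
    (clear * - hd' hj'; omega)
  · obtain rfl : q = p ^ f₁ := hfl
    rw [same_fld (M := 12) (by norm_num) hfM]
  · exfalso
    have h5 : f₁ * 18 = f * 12 := hfM
    obtain ⟨j, hj, hd⟩ := hYc 8 (by decide : 8 ∈ [2, 3, 4, 6, 8, 10, 12, 18]) (by omega) (by omega)
    have hd' : 96 ∣ 18 * j := hd
    have hj' : j ∈ [2, 6, 8, 12] := hj
    simp only [List.mem_cons, List.not_mem_nil, or_false] at hj'
    (clear * - hd' hj'; omega)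
  · exact absurd h0 (by norm_num)
  · exact absurd h0 (by norm_num)
  · exact absurd h0 (by norm_num)

/-- **`f4`, class 8** -/
theorem bigp_f4_8 (hp : p.Prime) (hf : 1 ≤ f) (hg : Cond g) (hch : HasChar p g)
    (hc : den g * c = num g) (hdvd : c ∣ num (.f4 (p ^ f))) (hs : ∀ s, Prim p (f * 8) s → s ∣ c)
    (hpp : p ^ (24 * f) ∣ p ^ (5 * f) * c) : g = .f4 (p ^ f) := by
  obtain ⟨f₁, hf₁, hfl, hK, hY⟩ := kd_all hp hg hch hc
  have hT := td_f4 hp hf hdvd
  have hq : 2 ≤ p ^ f := hp.two_le.trans (Nat.le_self_pow (by omega) _)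
  obtain ⟨i, hi, hei, hfM, hl1, hl2, hYc⟩ := compF (δ := 5) (e := 8) hp hf hg hch hf₁ hfl hK hY hc hT (by norm_num)
    (by norm_num) hs (by rwa [mul_comm f, mul_comm f])
  have hi' : i ∈ [2, 6, 8, 12] := hi
  simp only [List.mem_cons, List.not_mem_nil, or_false] at hi'
  have key : (i = 8 ∧ lam g = 5) ∨ (i = 8 ∧ lam g = 6) ∨ (i = 12 ∧ lam g = 4) := by
    rcases hi' with rfl | rfl | rfl | rfl <;> omega
  clear hi hi' hei hl1 hl2
  rcases key with ⟨rfl, hL⟩ | ⟨rfl, hL⟩ | ⟨rfl, hL⟩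
  · rcases cases_lam hg hch hL (by norm_num) with ⟨q, rfl⟩ | ⟨q, rfl⟩ | ⟨q, rfl⟩ | ⟨q, rfl⟩ | ⟨q, rfl⟩ | ⟨q, rfl⟩ | ⟨q, rfl⟩ |
      ⟨h0, q, rfl⟩ | ⟨h0, q, rfl⟩ | ⟨h0, q, rfl⟩ | ⟨h0, q, rfl⟩ | ⟨h0, q, rfl⟩
    · exfalso
      have h5 : f₁ * 6 = f * 8 := hfM
      obtain ⟨j, hj, hd⟩ := hYc 4 ⟨by norm_num, by norm_num⟩ (by omega) (by omega)
      have hd' : 32 ∣ 6 * j := hd
      have hj' : j ∈ [2, 6, 8, 12] := hj
      simp only [List.mem_cons, List.not_mem_nil, or_false] at hj'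
      (clear * - hd' hj'; omega)
    · exfalso
      have h5 : f₁ * 10 = f * 8 := hfM
      obtain ⟨j, hj, hd⟩ := hYc 4 ⟨by norm_num, by norm_num, by norm_num⟩ (by omega) (by omega)
      have hd' : 32 ∣ 10 * j := hd
      have hj' : j ∈ [2, 6, 8, 12] := hj
      simp only [List.mem_cons, List.not_mem_nil, or_false] at hj'
      (clear * - hd' hj'; omega)
    · exfalso
      have h5 : f₁ * 10 = f * 8 := hfM
      obtain ⟨j, hj, hd⟩ := hYc 4 ⟨by norm_num, by norm_num, by norm_num⟩ (by omega) (by omega)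
      have hd' : 32 ∣ 10 * j := hd
      have hj' : j ∈ [2, 6, 8, 12] := hj
      simp only [List.mem_cons, List.not_mem_nil, or_false] at hj'
      omega
    · exfalso
      obtain rfl : q = p ^ f₁ := hfl
      have h5 : f₁ * (2 * (5 - 1)) = f * 8 := hfM
      obtain rfl : f₁ = f := by omega
      obtain ⟨s, hs0⟩ := exists_prim (q := p) (e := f₁ * 5) hp.two_le (by omega) (by omega)
      have hs1 := prim_pow hf₁ hs0
      have h6 : s ∣ c := by
        refine hs1.dvd_of_eq hc ?_ (hs1.not_dvd_gcd_four (by norm_num))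
        change s ∣ (p ^ f₁) ^ (5 * (5 - 1)) * (((p ^ f₁) ^ 5 - 1) * prB (p ^ f₁) (5 - 1))
        exact ((hs1.dvd dvd_rfl).mul_right _).mul_left _
      obtain ⟨j, hj, hd⟩ := hT.exp hs0 h6
      have hj' : j ∈ [2, 6, 8, 12] := hj
      have hd' := Nat.dvd_of_mul_dvd_mul_left (by omega) hd
      simp only [List.mem_cons, List.not_mem_nil, or_false] at hj'
      omega
    · exfalso
      have h5 : f₁ * 12 = f * 8 := hfM
      obtain ⟨j, hj, hd⟩ := hYc 8 ⟨by norm_num, by norm_num, by norm_num⟩ (by omega) (by omega)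
      have hd' : 64 ∣ 12 * j := hd
      have hj' : j ∈ [2, 6, 8, 12] := hj
      simp only [List.mem_cons, List.not_mem_nil, or_false] at hj'
      (clear * - hd' hj'; omega)
    · exfalso
      have h5 : f₁ * 18 = f * 8 := hfM
      obtain ⟨j, hj, hd⟩ := hYc 4 ⟨by norm_num, Or.inl ⟨by norm_num, by norm_num⟩⟩ (by omega) (by omega)
      have hd' : 32 ∣ 18 * j := hd
      have hj' : j ∈ [2, 6, 8, 12] := hj
      simp only [List.mem_cons, List.not_mem_nil, or_false] at hj'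
      (clear * - hd' hj'; omega)
    · exfalso
      have h5 : f₁ * 22 = f * 8 := hfM
      obtain ⟨j, hj, hd⟩ := hYc 4 ⟨by norm_num, Or.inl ⟨by norm_num, by norm_num⟩⟩ (by omega) (by omega)
      have hd' : 32 ∣ 22 * j := hd
      have hj' : j ∈ [2, 6, 8, 12] := hj
      simp only [List.mem_cons, List.not_mem_nil, or_false] at hj'
      (clear * - hd' hj'; omega)
    · exact absurd h0 (by norm_num)
    · exact absurd h0 (by norm_num)
    · exact absurd h0 (by norm_num)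
    · exact absurd h0 (by norm_num)
    · exact absurd h0 (by norm_num)
  · rcases cases_lam hg hch hL (by norm_num) with ⟨q, rfl⟩ | ⟨q, rfl⟩ | ⟨q, rfl⟩ | ⟨q, rfl⟩ | ⟨q, rfl⟩ | ⟨q, rfl⟩ | ⟨q, rfl⟩ |
      ⟨h0, q, rfl⟩ | ⟨h0, q, rfl⟩ | ⟨h0, q, rfl⟩ | ⟨h0, q, rfl⟩ | ⟨h0, q, rfl⟩
    · exfalso
      have h5 : f₁ * 7 = f * 8 := hfM
      obtain ⟨j, hj, hd⟩ := hYc 4 ⟨by norm_num, by norm_num⟩ (by omega) (by omega)
      have hd' : 32 ∣ 7 * j := hd
      have hj' : j ∈ [2, 6, 8, 12] := hj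
      simp only [List.mem_cons, List.not_mem_nil, or_false] at hj'
      (clear * - hd' hj'; omega)
    · exfalso
      have h5 : f₁ * 12 = f * 8 := hfM
      obtain ⟨j, hj, hd⟩ := hYc 8 ⟨by norm_num, by norm_num, by norm_num⟩ (by omega) (by omega)
      have hd' : 64 ∣ 12 * j := hd
      have hj' : j ∈ [2, 6, 8, 12] := hj
      simp only [List.mem_cons, List.not_mem_nil, or_false] at hj'
      (clear * - hd' hj'; omega)
    · exfalso
      have h5 : f₁ * 12 = f * 8 := hfM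
      obtain ⟨j, hj, hd⟩ := hYc 8 ⟨by norm_num, by norm_num, by norm_num⟩ (by omega) (by omega)
      have hd' : 64 ∣ 12 * j := hd
      have hj' : j ∈ [2, 6, 8, 12] := hj
      simp only [List.mem_cons, List.not_mem_nil, or_false] at hj'
      (clear * - hd' hj'; omega)
    · exfalso
      have h5 : f₁ * 10 = f * 8 := hfM
      obtain ⟨j, hj, hd⟩ := hYc 4 ⟨by norm_num, by norm_num, by norm_num⟩ (by omega) (by omega)
      have hd' : 32 ∣ 10 * j := hd
      have hj' : j ∈ [2, 6, 8, 12] := hj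
      simp only [List.mem_cons, List.not_mem_nil, or_false] at hj'
      omega
    · exfalso
      have h5 : f₁ * 14 = f * 8 := hfM
      obtain ⟨j, hj, hd⟩ := hYc 4 ⟨by norm_num, by norm_num, by norm_num⟩ (by omega) (by omega)
      have hd' : 32 ∣ 14 * j := hd
      have hj' : j ∈ [2, 6, 8, 12] := hj
      simp only [List.mem_cons, List.not_mem_nil, or_false] at hj'
      (clear * - hd' hj'; omega)
    · exfalso
      have h5 : f₁ * 22 = f * 8 := hfM
      obtain ⟨j, hj, hd⟩ := hYc 4 ⟨by norm_num, Or.inl ⟨by norm_num, by norm_num⟩⟩ (by omega) (by omega)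
      have hd' : 32 ∣ 22 * j := hd
      have hj' : j ∈ [2, 6, 8, 12] := hj
      simp only [List.mem_cons, List.not_mem_nil, or_false] at hj'
      (clear * - hd' hj'; omega)
    · exfalso
      have h5 : f₁ * 26 = f * 8 := hfM
      obtain ⟨j, hj, hd⟩ := hYc 4 ⟨by norm_num, Or.inl ⟨by norm_num, by norm_num⟩⟩ (by omega) (by omega)
      have hd' : 32 ∣ 26 * j := hd
      have hj' : j ∈ [2, 6, 8, 12] := hj
      simp only [List.mem_cons, List.not_mem_nil, or_false] at hj'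
      (clear * - hd' hj'; omega)
    · exact absurd h0 (by norm_num)
    · exact absurd h0 (by norm_num)
    · exfalso
      have h5 : f₁ * 12 = f * 8 := hfM
      obtain ⟨j, hj, hd⟩ := hYc 5 (by decide : 5 ∈ [2, 3, 4, 5, 6, 8, 9, 12]) (by omega) (by omega)
      have hd' : 40 ∣ 12 * j := hd
      have hj' : j ∈ [2, 6, 8, 12] := hj
      simp only [List.mem_cons, List.not_mem_nil, or_false] at hj'
      (clear * - hd' hj'; omega)
    · exact absurd h0 (by norm_num)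
    · exact absurd h0 (by norm_num)
  · rcases cases_lam hg hch hL (by norm_num) with ⟨q, rfl⟩ | ⟨q, rfl⟩ | ⟨q, rfl⟩ | ⟨q, rfl⟩ | ⟨q, rfl⟩ | ⟨q, rfl⟩ | ⟨q, rfl⟩ |
      ⟨h0, q, rfl⟩ | ⟨h0, q, rfl⟩ | ⟨h0, q, rfl⟩ | ⟨h0, q, rfl⟩ | ⟨h0, q, rfl⟩
    · exfalso
      have h5 : f₁ * 5 = f * 12 := hfM
      obtain ⟨j, hj, hd⟩ := hYc 4 ⟨by norm_num, by norm_num⟩ (by omega) (by omega)
      have hd' : 48 ∣ 5 * j := hd
      have hj' : j ∈ [2, 6, 8, 12] := hj
      simp only [List.mem_cons, List.not_mem_nil, or_false] at hj'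
      (clear * - hd' hj'; omega)
    · exfalso
      have h5 : f₁ * 8 = f * 12 := hfM
      obtain ⟨j, hj, hd⟩ := hYc 6 ⟨by norm_num, by norm_num, by norm_num⟩ (by omega) (by omega)
      have hd' : 72 ∣ 8 * j := hd
      have hj' : j ∈ [2, 6, 8, 12] := hj
      simp only [List.mem_cons, List.not_mem_nil, or_false] at hj'
      omega
    · exfalso
      have h5 : f₁ * 8 = f * 12 := hfM
      obtain ⟨j, hj, hd⟩ := hYc 6 ⟨by norm_num, by norm_num, by norm_num⟩ (by omega) (by omega)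
      have hd' : 72 ∣ 8 * j := hd
      have hj' : j ∈ [2, 6, 8, 12] := hj
      simp only [List.mem_cons, List.not_mem_nil, or_false] at hj'
      omega
    · exfalso
      obtain rfl : q = p ^ f₁ := hfl
      have h5 : f₁ * (2 * (4 - 1)) = f * 12 := hfM
      obtain rfl : f₁ = f * 2 := by omega
      exact kill_oplus4 hp hf hc hdvd
    · exfalso
      have h5 : f₁ * 10 = f * 12 := hfM
      obtain ⟨j, hj, hd⟩ := hYc 4 ⟨by norm_num, by norm_num, by norm_num⟩ (by omega) (by omega)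
      have hd' : 48 ∣ 10 * j := hd
      have hj' : j ∈ [2, 6, 8, 12] := hj
      simp only [List.mem_cons, List.not_mem_nil, or_false] at hj'
      (clear * - hd' hj'; omega)
    · exfalso
      have h5 : f₁ * 14 = f * 12 := hfM
      obtain ⟨j, hj, hd⟩ := hYc 4 ⟨by norm_num, Or.inl ⟨by norm_num, by norm_num⟩⟩ (by omega) (by omega)
      have hd' : 48 ∣ 14 * j := hd
      have hj' : j ∈ [2, 6, 8, 12] := hj
      simp only [List.mem_cons, List.not_mem_nil, or_false] at hj'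
      (clear * - hd' hj'; omega)
    · exfalso
      have h5 : f₁ * 18 = f * 12 := hfM
      obtain ⟨j, hj, hd⟩ := hYc 8 ⟨by norm_num, Or.inl ⟨by norm_num, by norm_num⟩⟩ (by omega) (by omega)
      have hd' : 96 ∣ 18 * j := hd
      have hj' : j ∈ [2, 6, 8, 12] := hj
      simp only [List.mem_cons, List.not_mem_nil, or_false] at hj'
      (clear * - hd' hj'; omega)
    · obtain rfl : q = p ^ f₁ := hfl
      rw [same_fld (M := 12) (by norm_num) hfM]
    · exfalso
      have h5 : f₁ * 18 = f * 12 := hfM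
      obtain ⟨j, hj, hd⟩ := hYc 8 (by decide : 8 ∈ [2, 3, 4, 6, 8, 10, 12, 18]) (by omega) (by omega)
      have hd' : 96 ∣ 18 * j := hd
      have hj' : j ∈ [2, 6, 8, 12] := hj
      simp only [List.mem_cons, List.not_mem_nil, or_false] at hj'
      (clear * - hd' hj'; omega)
    · exact absurd h0 (by norm_num)
    · exact absurd h0 (by norm_num)
    · exact absurd h0 (by norm_num)

/-- **`e8`, class 24** -/
theorem bigp_e8_24 (hp : p.Prime) (hf : 1 ≤ f) (hg : Cond g) (hch : HasChar p g)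
    (hc : den g * c = num g) (hdvd : c ∣ num (.e8 (p ^ f))) (hs : ∀ s, Prim p (f * 24) s → s ∣ c)
    (hpp : p ^ (120 * f) ∣ p ^ (6 * f) * c) : g = .e8 (p ^ f) := by
  obtain ⟨f₁, hf₁, hfl, hK, hY⟩ := kd_all hp hg hch hc
  have hT := td_e8 hp hf hdvd
  have hq : 2 ≤ p ^ f := hp.two_le.trans (Nat.le_self_pow (by omega) _)
  obtain ⟨i, hi, hei, hfM, hl1, hl2, hYc⟩ := compF (δ := 6) (e := 24) hp hf hg hch hf₁ hfl hK hY hc hT (by norm_num)
    (by norm_num) hs (by rwa [mul_comm f, mul_comm f])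
  have hi' : i ∈ [2, 8, 12, 14, 18, 20, 24, 30] := hi
  simp only [List.mem_cons, List.not_mem_nil, or_false] at hi'
  have key : (i = 24 ∧ lam g = 10) ∨ (i = 30 ∧ lam g = 8) := by
    rcases hi' with rfl | rfl | rfl | rfl | rfl | rfl | rfl | rfl <;> omega
  clear hi hi' hei hl1 hl2
  rcases key with ⟨rfl, hL⟩ | ⟨rfl, hL⟩
  · rcases cases_lam hg hch hL (by norm_num) with ⟨q, rfl⟩ | ⟨q, rfl⟩ | ⟨q, rfl⟩ | ⟨q, rfl⟩ | ⟨q, rfl⟩ | ⟨q, rfl⟩ | ⟨q, rfl⟩ |
      ⟨h0, q, rfl⟩ | ⟨h0, q, rfl⟩ | ⟨h0, q, rfl⟩ | ⟨h0, q, rfl⟩ | ⟨h0, q, rfl⟩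
    · exfalso
      have h5 : f₁ * 11 = f * 24 := hfM
      obtain ⟨j, hj, hd⟩ := hYc 4 ⟨by norm_num, by norm_num⟩ (by omega) (by omega)
      have hd' : 96 ∣ 11 * j := hd
      have hj' : j ∈ [2, 8, 12, 14, 18, 20, 24, 30] := hj
      simp only [List.mem_cons, List.not_mem_nil, or_false] at hj'
      (clear * - hd' hj'; omega)
    · exfalso
      have h5 : f₁ * 20 = f * 24 := hfM
      obtain ⟨j, hj, hd⟩ := hYc 8 ⟨by norm_num, by norm_num, by norm_num⟩ (by omega) (by omega)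
      have hd' : 192 ∣ 20 * j := hd
      have hj' : j ∈ [2, 8, 12, 14, 18, 20, 24, 30] := hj
      simp only [List.mem_cons, List.not_mem_nil, or_false] at hj'
      (clear * - hd' hj'; omega)
    · exfalso
      have h5 : f₁ * 20 = f * 24 := hfM
      obtain ⟨j, hj, hd⟩ := hYc 8 ⟨by norm_num, by norm_num, by norm_num⟩ (by omega) (by omega)
      have hd' : 192 ∣ 20 * j := hd
      have hj' : j ∈ [2, 8, 12, 14, 18, 20, 24, 30] := hj
      simp only [List.mem_cons, List.not_mem_nil, or_false] at hj'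
      (clear * - hd' hj'; omega)
    · exfalso
      have h5 : f₁ * 18 = f * 24 := hfM
      obtain ⟨j, hj, hd⟩ := hYc 4 ⟨by norm_num, by norm_num, by norm_num⟩ (by omega) (by omega)
      have hd' : 96 ∣ 18 * j := hd
      have hj' : j ∈ [2, 8, 12, 14, 18, 20, 24, 30] := hj
      simp only [List.mem_cons, List.not_mem_nil, or_false] at hj'
      (clear * - hd' hj'; omega)
    · exfalso
      have h5 : f₁ * 22 = f * 24 := hfM
      obtain ⟨j, hj, hd⟩ := hYc 4 ⟨by norm_num, by norm_num, by norm_num⟩ (by omega) (by omega)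
      have hd' : 96 ∣ 22 * j := hd
      have hj' : j ∈ [2, 8, 12, 14, 18, 20, 24, 30] := hj
      simp only [List.mem_cons, List.not_mem_nil, or_false] at hj'
      (clear * - hd' hj'; omega)
    · exfalso
      have h5 : f₁ * 38 = f * 24 := hfM
      obtain ⟨j, hj, hd⟩ := hYc 4 ⟨by norm_num, Or.inl ⟨by norm_num, by norm_num⟩⟩ (by (clear * - hf₁; omega)) (by (clear * -; omega))
      have hd' : 96 ∣ 38 * j := hd
      have hj' : j ∈ [2, 8, 12, 14, 18, 20, 24, 30] := hj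
      simp only [List.mem_cons, List.not_mem_nil, or_false] at hj'
      (clear * - hd' hj'; omega)
    · exfalso
      have h5 : f₁ * 42 = f * 24 := hfM
      obtain ⟨j, hj, hd⟩ := hYc 4 ⟨by norm_num, Or.inl ⟨by norm_num, by norm_num⟩⟩ (by omega) (by omega)
      have hd' : 96 ∣ 42 * j := hd
      have hj' : j ∈ [2, 8, 12, 14, 18, 20, 24, 30] := hj
      simp only [List.mem_cons, List.not_mem_nil, or_false] at hj'
      (clear * - hd' hj'; omega)
    · exact absurd h0 (by norm_num)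
    · exact absurd h0 (by norm_num)
    · exact absurd h0 (by norm_num)
    · exact absurd h0 (by norm_num)
    · exact absurd h0 (by norm_num)
  · rcases cases_lam hg hch hL (by norm_num) with ⟨q, rfl⟩ | ⟨q, rfl⟩ | ⟨q, rfl⟩ | ⟨q, rfl⟩ | ⟨q, rfl⟩ | ⟨q, rfl⟩ | ⟨q, rfl⟩ |
      ⟨h0, q, rfl⟩ | ⟨h0, q, rfl⟩ | ⟨h0, q, rfl⟩ | ⟨h0, q, rfl⟩ | ⟨h0, q, rfl⟩
    · exfalso
      have h5 : f₁ * 9 = f * 30 := hfM
      obtain ⟨j, hj, hd⟩ := hYc 4 ⟨by norm_num, by norm_num⟩ (by omega) (by omega)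
      have hd' : 120 ∣ 9 * j := hd
      have hj' : j ∈ [2, 8, 12, 14, 18, 20, 24, 30] := hj
      simp only [List.mem_cons, List.not_mem_nil, or_false] at hj'
      (clear * - hd' hj'; omega)
    · exfalso
      have h5 : f₁ * 16 = f * 30 := hfM
      obtain ⟨j, hj, hd⟩ := hYc 10 ⟨by norm_num, by norm_num, by norm_num⟩ (by omega) (by omega)
      have hd' : 300 ∣ 16 * j := hd
      have hj' : j ∈ [2, 8, 12, 14, 18, 20, 24, 30] := hj
      simp only [List.mem_cons, List.not_mem_nil, or_false] at hj'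
      (clear * - hd' hj'; omega)
    · exfalso
      have h5 : f₁ * 16 = f * 30 := hfM
      obtain ⟨j, hj, hd⟩ := hYc 10 ⟨by norm_num, by norm_num, by norm_num⟩ (by omega) (by omega)
      have hd' : 300 ∣ 16 * j := hd
      have hj' : j ∈ [2, 8, 12, 14, 18, 20, 24, 30] := hj
      simp only [List.mem_cons, List.not_mem_nil, or_false] at hj'
      (clear * - hd' hj'; omega)
    · exfalso
      have h5 : f₁ * 14 = f * 30 := hfM
      obtain ⟨j, hj, hd⟩ := hYc 4 ⟨by norm_num, by norm_num, by norm_num⟩ (by omega) (by omega)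
      have hd' : 120 ∣ 14 * j := hd
      have hj' : j ∈ [2, 8, 12, 14, 18, 20, 24, 30] := hj
      simp only [List.mem_cons, List.not_mem_nil, or_false] at hj'
      (clear * - hd' hj'; omega)
    · exfalso
      have h5 : f₁ * 18 = f * 30 := hfM
      obtain ⟨j, hj, hd⟩ := hYc 8 ⟨by norm_num, by norm_num, by norm_num⟩ (by omega) (by omega)
      have hd' : 240 ∣ 18 * j := hd
      have hj' : j ∈ [2, 8, 12, 14, 18, 20, 24, 30] := hj
      simp only [List.mem_cons, List.not_mem_nil, or_false] at hj'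
      (clear * - hd' hj'; omega)
    · exfalso
      have h5 : f₁ * 30 = f * 30 := hfM
      obtain ⟨j, hj, hd⟩ := hYc 16 ⟨by norm_num, Or.inl ⟨by norm_num, by norm_num⟩⟩ (by omega) (by omega)
      have hd' : 480 ∣ 30 * j := hd
      have hj' : j ∈ [2, 8, 12, 14, 18, 20, 24, 30] := hj
      simp only [List.mem_cons, List.not_mem_nil, or_false] at hj'
      omega
    · exfalso
      have h5 : f₁ * 34 = f * 30 := hfM
      obtain ⟨j, hj, hd⟩ := hYc 4 ⟨by norm_num, Or.inl ⟨by norm_num, by norm_num⟩⟩ (by omega) (by omega)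
      have hd' : 120 ∣ 34 * j := hd
      have hj' : j ∈ [2, 8, 12, 14, 18, 20, 24, 30] := hj
      simp only [List.mem_cons, List.not_mem_nil, or_false] at hj'
      (clear * - hd' hj'; omega)
    · exact absurd h0 (by norm_num)
    · exact absurd h0 (by norm_num)
    · exact absurd h0 (by norm_num)
    · exact absurd h0 (by norm_num)
    · obtain rfl : q = p ^ f₁ := hfl
      rw [same_fld (M := 30) (by norm_num) hfM]

/-- **`e8`, class 20** -/
theorem bigp_e8_20 (hp : p.Prime) (hf : 1 ≤ f) (hg : Cond g) (hch : HasChar p g)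
    (hc : den g * c = num g) (hdvd : c ∣ num (.e8 (p ^ f))) (hs : ∀ s, Prim p (f * 20) s → s ∣ c)
    (hpp : p ^ (120 * f) ∣ p ^ (6 * f) * c) : g = .e8 (p ^ f) := by
  obtain ⟨f₁, hf₁, hfl, hK, hY⟩ := kd_all hp hg hch hc
  have hT := td_e8 hp hf hdvd
  have hq : 2 ≤ p ^ f := hp.two_le.trans (Nat.le_self_pow (by omega) _)
  obtain ⟨i, hi, hei, hfM, hl1, hl2, hYc⟩ := compF (δ := 6) (e := 20) hp hf hg hch hf₁ hfl hK hY hc hT (by norm_num)
    (by norm_num) hs (by rwa [mul_comm f, mul_comm f])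
  have hi' : i ∈ [2, 8, 12, 14, 18, 20, 24, 30] := hi
  simp only [List.mem_cons, List.not_mem_nil, or_false] at hi'
  have key : (i = 20 ∧ lam g = 12) ∨ (i = 24 ∧ lam g = 10) ∨ (i = 30 ∧ lam g = 8) := by
    rcases hi' with rfl | rfl | rfl | rfl | rfl | rfl | rfl | rfl <;> omega
  clear hi hi' hei hl1 hl2
  rcases key with ⟨rfl, hL⟩ | ⟨rfl, hL⟩ | ⟨rfl, hL⟩
  · rcases cases_lam hg hch hL (by norm_num) with ⟨q, rfl⟩ | ⟨q, rfl⟩ | ⟨q, rfl⟩ | ⟨q, rfl⟩ | ⟨q, rfl⟩ | ⟨q, rfl⟩ | ⟨q, rfl⟩ |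
      ⟨h0, q, rfl⟩ | ⟨h0, q, rfl⟩ | ⟨h0, q, rfl⟩ | ⟨h0, q, rfl⟩ | ⟨h0, q, rfl⟩
    · exfalso
      have h5 : f₁ * 13 = f * 20 := hfM
      obtain ⟨j, hj, hd⟩ := hYc 4 ⟨by norm_num, by norm_num⟩ (by omega) (by omega)
      have hd' : 80 ∣ 13 * j := hd
      have hj' : j ∈ [2, 8, 12, 14, 18, 20, 24, 30] := hj
      simp only [List.mem_cons, List.not_mem_nil, or_false] at hj'
      (clear * - hd' hj'; omega)
    · exfalso
      have h5 : f₁ * 24 = f * 20 := hfM
      obtain ⟨j, hj, hd⟩ := hYc 10 ⟨by norm_num, by norm_num, by norm_num⟩ (by omega) (by omega)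
      have hd' : 200 ∣ 24 * j := hd
      have hj' : j ∈ [2, 8, 12, 14, 18, 20, 24, 30] := hj
      simp only [List.mem_cons, List.not_mem_nil, or_false] at hj'
      (clear * - hd' hj'; omega)
    · exfalso
      have h5 : f₁ * 24 = f * 20 := hfM
      obtain ⟨j, hj, hd⟩ := hYc 10 ⟨by norm_num, by norm_num, by norm_num⟩ (by omega) (by omega)
      have hd' : 200 ∣ 24 * j := hd
      have hj' : j ∈ [2, 8, 12, 14, 18, 20, 24, 30] := hj
      simp only [List.mem_cons, List.not_mem_nil, or_false] at hj'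
      (clear * - hd' hj'; omega)
    · exfalso
      have h5 : f₁ * 22 = f * 20 := hfM
      obtain ⟨j, hj, hd⟩ := hYc 4 ⟨by norm_num, by norm_num, by norm_num⟩ (by omega) (by omega)
      have hd' : 80 ∣ 22 * j := hd
      have hj' : j ∈ [2, 8, 12, 14, 18, 20, 24, 30] := hj
      simp only [List.mem_cons, List.not_mem_nil, or_false] at hj'
      (clear * - hd' hj'; omega)
    · exfalso
      have h5 : f₁ * 26 = f * 20 := hfM
      obtain ⟨j, hj, hd⟩ := hYc 4 ⟨by norm_num, by norm_num, by norm_num⟩ (by omega) (by omega)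
      have hd' : 80 ∣ 26 * j := hd
      have hj' : j ∈ [2, 8, 12, 14, 18, 20, 24, 30] := hj
      simp only [List.mem_cons, List.not_mem_nil, or_false] at hj'
      (clear * - hd' hj'; omega)
    · exfalso
      have h5 : f₁ * 46 = f * 20 := hfM
      obtain ⟨j, hj, hd⟩ := hYc 4 ⟨by norm_num, Or.inl ⟨by norm_num, by norm_num⟩⟩ (by omega) (by omega)
      have hd' : 80 ∣ 46 * j := hd
      have hj' : j ∈ [2, 8, 12, 14, 18, 20, 24, 30] := hj
      simp only [List.mem_cons, List.not_mem_nil, or_false] at hj'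
      (clear * - hd' hj'; omega)
    · exfalso
      have h5 : f₁ * 50 = f * 20 := hfM
      obtain ⟨j, hj, hd⟩ := hYc 8 ⟨by norm_num, Or.inl ⟨by norm_num, by norm_num⟩⟩ (by omega) (by omega)
      have hd' : 160 ∣ 50 * j := hd
      have hj' : j ∈ [2, 8, 12, 14, 18, 20, 24, 30] := hj
      simp only [List.mem_cons, List.not_mem_nil, or_false] at hj'
      (clear * - hd' hj'; omega)
    · exact absurd h0 (by norm_num)
    · exact absurd h0 (by norm_num)
    · exact absurd h0 (by norm_num)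
    · exact absurd h0 (by norm_num)
    · exact absurd h0 (by norm_num)
  · rcases cases_lam hg hch hL (by norm_num) with ⟨q, rfl⟩ | ⟨q, rfl⟩ | ⟨q, rfl⟩ | ⟨q, rfl⟩ | ⟨q, rfl⟩ | ⟨q, rfl⟩ | ⟨q, rfl⟩ |
      ⟨h0, q, rfl⟩ | ⟨h0, q, rfl⟩ | ⟨h0, q, rfl⟩ | ⟨h0, q, rfl⟩ | ⟨h0, q, rfl⟩
    · exfalso
      have h5 : f₁ * 11 = f * 24 := hfM
      obtain ⟨j, hj, hd⟩ := hYc 4 ⟨by norm_num, by norm_num⟩ (by omega) (by omega)
      have hd' : 96 ∣ 11 * j := hd
      have hj' : j ∈ [2, 8, 12, 14, 18, 20, 24, 30] := hj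
      simp only [List.mem_cons, List.not_mem_nil, or_false] at hj'
      (clear * - hd' hj'; omega)
    · exfalso
      have h5 : f₁ * 20 = f * 24 := hfM
      obtain ⟨j, hj, hd⟩ := hYc 8 ⟨by norm_num, by norm_num, by norm_num⟩ (by omega) (by omega)
      have hd' : 192 ∣ 20 * j := hd
      have hj' : j ∈ [2, 8, 12, 14, 18, 20, 24, 30] := hj
      simp only [List.mem_cons, List.not_mem_nil, or_false] at hj'
      (clear * - hd' hj'; omega)
    · exfalso
      have h5 : f₁ * 20 = f * 24 := hfM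
      obtain ⟨j, hj, hd⟩ := hYc 8 ⟨by norm_num, by norm_num, by norm_num⟩ (by omega) (by omega)
      have hd' : 192 ∣ 20 * j := hd
      have hj' : j ∈ [2, 8, 12, 14, 18, 20, 24, 30] := hj
      simp only [List.mem_cons, List.not_mem_nil, or_false] at hj'
      (clear * - hd' hj'; omega)
    · exfalso
      have h5 : f₁ * 18 = f * 24 := hfM
      obtain ⟨j, hj, hd⟩ := hYc 4 ⟨by norm_num, by norm_num, by norm_num⟩ (by omega) (by omega)
      have hd' : 96 ∣ 18 * j := hd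
      have hj' : j ∈ [2, 8, 12, 14, 18, 20, 24, 30] := hj
      simp only [List.mem_cons, List.not_mem_nil, or_false] at hj'
      (clear * - hd' hj'; omega)
    · exfalso
      have h5 : f₁ * 22 = f * 24 := hfM
      obtain ⟨j, hj, hd⟩ := hYc 4 ⟨by norm_num, by norm_num, by norm_num⟩ (by omega) (by omega)
      have hd' : 96 ∣ 22 * j := hd
      have hj' : j ∈ [2, 8, 12, 14, 18, 20, 24, 30] := hj
      simp only [List.mem_cons, List.not_mem_nil, or_false] at hj'
      (clear * - hd' hj'; omega)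
    · exfalso
      have h5 : f₁ * 38 = f * 24 := hfM
      obtain ⟨j, hj, hd⟩ := hYc 4 ⟨by norm_num, Or.inl ⟨by norm_num, by norm_num⟩⟩ (by (clear * - hf₁; omega)) (by (clear * -; omega))
      have hd' : 96 ∣ 38 * j := hd
      have hj' : j ∈ [2, 8, 12, 14, 18, 20, 24, 30] := hj
      simp only [List.mem_cons, List.not_mem_nil, or_false] at hj'
      (clear * - hd' hj'; omega)
    · exfalso
      have h5 : f₁ * 42 = f * 24 := hfM
      obtain ⟨j, hj, hd⟩ := hYc 4 ⟨by norm_num, Or.inl ⟨by norm_num, by norm_num⟩⟩ (by omega) (by omega)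
      have hd' : 96 ∣ 42 * j := hd
      have hj' : j ∈ [2, 8, 12, 14, 18, 20, 24, 30] := hj
      simp only [List.mem_cons, List.not_mem_nil, or_false] at hj'
      (clear * - hd' hj'; omega)
    · exact absurd h0 (by norm_num)
    · exact absurd h0 (by norm_num)
    · exact absurd h0 (by norm_num)
    · exact absurd h0 (by norm_num)
    · exact absurd h0 (by norm_num)
  · rcases cases_lam hg hch hL (by norm_num) with ⟨q, rfl⟩ | ⟨q, rfl⟩ | ⟨q, rfl⟩ | ⟨q, rfl⟩ | ⟨q, rfl⟩ | ⟨q, rfl⟩ | ⟨q, rfl⟩ |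
      ⟨h0, q, rfl⟩ | ⟨h0, q, rfl⟩ | ⟨h0, q, rfl⟩ | ⟨h0, q, rfl⟩ | ⟨h0, q, rfl⟩
    · exfalso
      have h5 : f₁ * 9 = f * 30 := hfM
      obtain ⟨j, hj, hd⟩ := hYc 4 ⟨by norm_num, by norm_num⟩ (by omega) (by omega)
      have hd' : 120 ∣ 9 * j := hd
      have hj' : j ∈ [2, 8, 12, 14, 18, 20, 24, 30] := hj
      simp only [List.mem_cons, List.not_mem_nil, or_false] at hj'
      (clear * - hd' hj'; omega)
    · exfalso
      have h5 : f₁ * 16 = f * 30 := hfM
      obtain ⟨j, hj, hd⟩ := hYc 10 ⟨by norm_num, by norm_num, by norm_num⟩ (by omega) (by omega)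
      have hd' : 300 ∣ 16 * j := hd
      have hj' : j ∈ [2, 8, 12, 14, 18, 20, 24, 30] := hj
      simp only [List.mem_cons, List.not_mem_nil, or_false] at hj'
      (clear * - hd' hj'; omega)
    · exfalso
      have h5 : f₁ * 16 = f * 30 := hfM
      obtain ⟨j, hj, hd⟩ := hYc 10 ⟨by norm_num, by norm_num, by norm_num⟩ (by omega) (by omega)
      have hd' : 300 ∣ 16 * j := hd
      have hj' : j ∈ [2, 8, 12, 14, 18, 20, 24, 30] := hj
      simp only [List.mem_cons, List.not_mem_nil, or_false] at hj'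
      (clear * - hd' hj'; omega)
    · exfalso
      have h5 : f₁ * 14 = f * 30 := hfM
      obtain ⟨j, hj, hd⟩ := hYc 4 ⟨by norm_num, by norm_num, by norm_num⟩ (by omega) (by omega)
      have hd' : 120 ∣ 14 * j := hd
      have hj' : j ∈ [2, 8, 12, 14, 18, 20, 24, 30] := hj
      simp only [List.mem_cons, List.not_mem_nil, or_false] at hj'
      (clear * - hd' hj'; omega)
    · exfalso
      have h5 : f₁ * 18 = f * 30 := hfM
      obtain ⟨j, hj, hd⟩ := hYc 8 ⟨by norm_num, by norm_num, by norm_num⟩ (by omega) (by omega)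
      have hd' : 240 ∣ 18 * j := hd
      have hj' : j ∈ [2, 8, 12, 14, 18, 20, 24, 30] := hj
      simp only [List.mem_cons, List.not_mem_nil, or_false] at hj'
      (clear * - hd' hj'; omega)
    · exfalso
      have h5 : f₁ * 30 = f * 30 := hfM
      obtain ⟨j, hj, hd⟩ := hYc 16 ⟨by norm_num, Or.inl ⟨by norm_num, by norm_num⟩⟩ (by omega) (by omega)
      have hd' : 480 ∣ 30 * j := hd
      have hj' : j ∈ [2, 8, 12, 14, 18, 20, 24, 30] := hj
      simp only [List.mem_cons, List.not_mem_nil, or_false] at hj'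
      omega
    · exfalso
      have h5 : f₁ * 34 = f * 30 := hfM
      obtain ⟨j, hj, hd⟩ := hYc 4 ⟨by norm_num, Or.inl ⟨by norm_num, by norm_num⟩⟩ (by omega) (by omega)
      have hd' : 120 ∣ 34 * j := hd
      have hj' : j ∈ [2, 8, 12, 14, 18, 20, 24, 30] := hj
      simp only [List.mem_cons, List.not_mem_nil, or_false] at hj'
      (clear * - hd' hj'; omega)
    · exact absurd h0 (by norm_num)
    · exact absurd h0 (by norm_num)
    · exact absurd h0 (by norm_num)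
    · exact absurd h0 (by norm_num)
    · obtain rfl : q = p ^ f₁ := hfl
      rw [same_fld (M := 30) (by norm_num) hfM]

end Cfsg.Agent.H363.DQ
end

-- part: H363/DQ/BigChar
section
/-!
# Large `p`-parts determine the characteristic, all primes `p` (helper363)

`hasChar_of_big`: the version of `H325.Same.hasChar_of_big` for all primes and slack `p ^ δ` with any `δ`.
-/

set_option autoImplicit false

namespace Cfsg.Agent.H363.DQ

universe u

open Cfsg Cfsg.Agent.OrdDiv Cfsg.Agent.H436 Cfsg.Agent.H915.GN Cfsg.Agent.H264.GN Cfsg.Agent.H264.FKS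
open Cfsg.Agent.H902 Cfsg.Agent.H902.Names
open Cfsg.Agent.H325.Same (name_cases pow_le_real)

theorem pow_six_le : ∀ k : ℕ, (k + 5) ^ 6 ≤ 27 ^ (k + 4) := by
  intro k
  induction k with
  | zero => norm_num
  | succ k ih =>
    have h1 : (k + 1 + 5) ^ 6 ≤ 27 * (k + 5) ^ 6 := by
      have h2 : 5 * (k + 1 + 5) ≤ 6 * (k + 5) := by omega
      have h3 : (5 * (k + 1 + 5)) ^ 6 ≤ (6 * (k + 5)) ^ 6 := Nat.pow_le_pow_left h2 6
      rw [mul_pow, mul_pow] at h3
      norm_num at h3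
      have h4 : 0 ≤ (k + 5) ^ 6 := Nat.zero_le _
      omega
    calc (k + 1 + 5) ^ 6 ≤ 27 * (k + 5) ^ 6 := h1
      _ ≤ 27 * 27 ^ (k + 4) := Nat.mul_le_mul_left _ ih
      _ = 27 ^ (k + 1 + 4) := by ring

/-- **The alternating groups.** -/
theorem no_alt {p n D e : ℕ} (hp : p.Prime) (hn : 5 ≤ n) (he : 13 ≤ e) (hD : D ≤ 3 * e)
    (hd : p ^ e ∣ n.factorial / 2) (hlt : n.factorial / 2 < p ^ D) : False := by
  by_cases h23 : p = 2 ∨ p = 3
  · exact H325.Same.no_alt h23 hn he hD hd hlt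
  have h5 : 5 ≤ p := by
    have h1 := hp.two_le
    rcases Nat.lt_or_ge p 5 with h2 | h2
    · exfalso
      interval_cases p
      · exact h23 (Or.inl rfl)
      · exact h23 (Or.inr rfl)
      · revert hp; norm_num
    · exact h2
  have h2 : 2 * (n.factorial / 2) = n.factorial := by
    have : 2 ∣ n.factorial := (Nat.prime_two.dvd_factorial).2 (by omega)
    omega
  set M := n.factorial / 2 with hM
  have hM0 : M ≠ 0 := by
    intro h
    rw [h] at h2
    exact (Nat.factorial_ne_zero n) h2.symm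
  have hfac : ∀ p, n.factorial.factorization p = (Nat.factorization 2) p + M.factorization p := by
    intro p
    rw [← h2, Nat.factorization_mul (by norm_num) hM0, Finsupp.add_apply]
  have hv := Art.fact_val hp (show 1 ≤ n by omega)
  have h3 := (hp.pow_dvd_iff_le_factorization hM0).1 hd
  rw [hfac] at hv
  have h4 : (p - 1) * e ≤ (p - 1) * ((Nat.factorization 2) p + M.factorization p) :=
    Nat.mul_le_mul_left _ (h3.trans (Nat.le_add_left _ _))
  have h6 : 4 * 13 ≤ (p - 1) * e := Nat.mul_le_mul (by omega) he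
  obtain ⟨k, rfl⟩ := Nat.exists_eq_add_of_le' (show 11 ≤ n by omega)
  have h7 := Art.grow_odd k
  rw [← hM] at h7
  have h8 : (p ^ 6) ^ e ≤ (27 ^ (p - 1)) ^ e := by
    apply Nat.pow_le_pow_left
    obtain ⟨j, rfl⟩ := Nat.exists_eq_add_of_le' h5
    exact pow_six_le j
  have h9 : 27 ^ ((p - 1) * e) ≤ 27 ^ (k + 10) := Nat.pow_le_pow_right (by norm_num) (by omega)
  have h10 : (p ^ D) ^ 2 ≤ (p ^ 6) ^ e := by
    rw [← pow_mul, ← pow_mul]
    exact Nat.pow_le_pow_right hp.pos (by omega)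
  have h11 : M ^ 2 < (p ^ D) ^ 2 := Nat.pow_lt_pow_left hlt (by norm_num)
  have h12 : (p ^ 6) ^ e ≤ 27 ^ ((p - 1) * e) := by rw [pow_mul]; exact h8
  omega

/-- **Large `p`-parts determine the characteristic.** -/
theorem hasChar_of_big {p f N δ B D MT : ℕ} {g : Grp} {S : Type u} [Group S] (hg : IsNamed g S)
    (hp' : p.Prime) (hdvd : Nat.card S ∣ MT) (hMT : MT ≠ 0)
    (hB : ∀ t, t.Prime → t ≠ p → Art.P t MT ≤ (p ^ f) ^ B) (hD : MT < p ^ D) (hDN : D ≤ 3 * (N * f - δ))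
    (h13 : 13 ≤ N * f - δ) (hBN : f * B + δ < N * f) (hpp : p ^ (N * f) ∣ p ^ δ * Nat.card S)
    (hspor : ∀ x ∈ spor, p ^ (N * f - δ) ∣ x.2 → x.2 ∣ MT → False) : HasChar p g := by
  have T : OrderTable.{u} := table
  have hdS : p ^ (N * f - δ) ∣ Nat.card S := by
    have h9 : p ^ (N * f) = p ^ δ * p ^ (N * f - δ) := by rw [← pow_add]; congr 1; omega
    rw [h9] at hpp
    exact Nat.dvd_of_mul_dvd_mul_left (pow_pos hp'.pos _) hpp
  have hlt : Nat.card S < p ^ D := (Nat.le_of_dvd (Nat.pos_of_ne_zero hMT) hdvd).trans_lt hD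
  rcases name_cases hg.cond with ⟨l, hl, hch⟩ | ⟨m, hm, rfl⟩ | ⟨x, hx, rfl⟩
  · by_cases hlp : l = p
    · exact hlp ▸ hch
    · exfalso
      obtain ⟨X, a, -, hR, -⟩ := exists_lie hl hg hch
      have h1 := pow_le_real hR hp' hlp h13 hdS
      have h2 := (Art.P_mono hl hMT hdvd).trans (hB l hl hlp)
      rw [← pow_mul] at h2
      have h3 : p ^ (f * B + 1) ≤ p ^ (N * f - δ) := Nat.pow_le_pow_right hp'.pos (by omega)
      have h4 : 2 * p ^ (f * B) ≤ p ^ (f * B + 1) := by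
        rw [pow_succ, mul_comm]
        exact Nat.mul_le_mul_left _ hp'.two_le
      have h5 : 2 ^ 13 ≤ p ^ (N * f - δ) :=
        (Nat.pow_le_pow_left hp'.two_le 13).trans (Nat.pow_le_pow_right hp'.pos h13)
      have h6 : 1 ≤ p ^ (f * B) := Nat.one_le_pow _ _ hp'.pos
      omega
  · exfalso
    have h1 : 2 * Nat.card S = m.factorial := hg.eq
    have h2 : Nat.card S = m.factorial / 2 := by omega
    rw [h2] at hdS hlt
    exact no_alt hp' hm h13 hDN hdS hlt
  · exfalso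
    have hc : Nat.card S = x.2 := T.spor S x hx hg.real
    rw [hc] at hdS hdvd
    exact hspor x hx hdS hdvd

/-! ### the sporadic groups -/

/-- the primes dividing the orders of the sporadic groups -/
theorem spor_part : ∀ x ∈ spor, x.2 ∣ (2 ^ 46 * 3 ^ 20) * (5 ^ 9 * 7 ^ 6 * 11 ^ 3 * 13 ^ 3 *
    (17 * 19 * 23 * 29 * 31 * 37 * 41 * 43 * 47 * 59 * 67 * 71)) := by
  decide +kernel

theorem key_ten : ∀ a < 72, ∀ b < 72, 5 ≤ 72 * a + b → ¬ (72 * a + b) ^ 10 ∣ 5 ^ 9 * 7 ^ 6 * 11 ^ 3 * 13 ^ 3 *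
    (17 * 19 * 23 * 29 * 31 * 37 * 41 * 43 * 47 * 59 * 67 * 71) := by
  decide +kernel

theorem le_ten : 5 ^ 9 * 7 ^ 6 * 11 ^ 3 * 13 ^ 3 * (17 * 19 * 23 * 29 * 31 * 37 * 41 * 43 * 47 * 59 * 67 * 71) ≤ 5000 ^ 10 := by
  decide +kernel

theorem spor_ten {p : ℕ} (hp : p.Prime) (h5 : 5 ≤ p) : ∀ x ∈ spor, ¬ p ^ 10 ∣ x.2 := by
  intro x hx h
  have h1 := h.trans (spor_part x hx)
  have h2 : Nat.Coprime (p ^ 10) (2 ^ 46 * 3 ^ 20) := by
    apply Nat.Coprime.pow_left
    apply Nat.Coprime.mul_right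
    · exact Nat.Coprime.pow_right _ ((Nat.coprime_primes hp Nat.prime_two).2 (by omega))
    · exact Nat.Coprime.pow_right _ ((Nat.coprime_primes hp Nat.prime_three).2 (by omega))
  have h4 := h2.dvd_of_dvd_mul_left h1
  have h5' : p ^ 10 ≤ 5000 ^ 10 := (Nat.le_of_dvd (by positivity) h4).trans le_ten
  have h6 : p ≤ 5000 := (Nat.pow_le_pow_iff_left (by norm_num)).1 h5'
  have h7 := key_ten (p / 72) (by omega) (p % 72) (by omega)
  rw [Nat.div_add_mod] at h7
  exact h7 h5 h4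

end Cfsg.Agent.H363.DQ
end
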